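import Cfsg.Agent.MK.E.F
import Cfsg.Agent.H980.GSet
import Cfsg.Agent.S0205
import Cfsg.Agent.SignalizersComponents.Components

/-!
# MK/E: `extOn_cyc`, `exists_cd`, `stepCyc`, `stepSm` (helper75)

* `extOn_cyc` : `S` cyclic modulo the inner automorphisms;
* `exists_equi` : equal marks give an equivariant bijection `SA → SB`;
* `stepC_marks` : the Clifford step from equal marks and an extension property for all pairs with the same stabiliser;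
* `stepCyc`, `stepSm`.
-/

set_option autoImplicit false

namespace Cfsg.Agent.MK.E

open Cfsg Subgroup Cfsg.Agent.MK Cfsg.Agent.Characters.Core
open scoped ComplexConjugate

variable {X : Type} [Group X] {Γ Λ S : Subgroup (MulAut X)}

/-- **the cyclic case of `ExtOn`** -/
theorem extOn_cyc [Finite X] (hS : S ≤ Λ) {θ : X → ℂ} {ψ : In Λ → ℂ} (hθ : IsIrrCharacter X θ)
    (hψ : IsIrrCharacter (In Λ) ψ) (hz : Sc Λ θ ψ) {γ : MulAut X} (hγ : γ ∈ S) (hθγ : ∀ x, θ (γ x) = θ x)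
    (hψγ : ∀ y y' : In Λ, (y' : X) = γ y → ψ y' = ψ y)
    (hgen : ∀ α ∈ S, ∃ (k : ℕ) (x : X), α = MulAut.conj x * γ ^ k) : ExtOn Λ S θ ψ := by
  obtain ⟨A, _, j, t, Ψ, hΨ, w, hj⟩ := exists_wit_inn (S := Cj (In Λ)) (isIrr_isCharacter hθ) (isIrr_isCharacter hψ)
    hz le_rfl
  refine ext_meta hS w hΨ hθ hψ hj (fun k _ => ⟨k, k.2, rfl⟩) hγ (fun α hα => ?_) fun β _ => ?_
  · obtain ⟨k, x, hx⟩ := hgen α hα
    refine ⟨_, ⟨x, ?_, rfl⟩, k, hx⟩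
    change MulAut.conj x ∈ Λ
    rw [eq_mul_inv_of_mul_eq hx.symm]
    exact hS (mul_mem hα (inv_mem (pow_mem hγ k)))
  · obtain ⟨_, k, hk, rfl⟩ := β
    refine ⟨⟨_, γ k, map_mem_In (hS hγ) hk, rfl⟩, conj_map γ k, fun x y y' hy => ?_⟩
    have e1 := w.inn ⟨k, hk⟩ ⟨k, hk, rfl⟩
    have e2 := w.inn ⟨γ k, map_mem_In (hS hγ) hk⟩ ⟨γ k, map_mem_In (hS hγ) hk, rfl⟩
    refine ((congrArg (fun u => Ψ (j (γ x, y') * u)) e2).trans ?_).trans
      (congrArg (fun u => Ψ (j (x, y) * u)) e1).symm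
    rw [← map_mul, ← map_mul, Prod.mk_mul_mk, Prod.mk_mul_mk, hj, hj,
      ← map_mul γ, hθγ, hψγ (y * ⟨k, hk⟩) _ (by rw [coe_mul, coe_mul, map_mul, hy])]

theorem normal_inn : (MulAut.conj : X →* MulAut X).range.Normal :=
  ⟨by rintro _ ⟨x, rfl⟩ α; exact ⟨α x, conj_map α x⟩⟩

/-- a subgroup of a group which is cyclic modulo the inner automorphisms has a generator -/
theorem cyc_sub [Finite X] {γ : MulAut X} {L : Subgroup (MulAut X)}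
    (h : ∀ α ∈ L, ∃ (k : ℕ) (x : X), α = MulAut.conj x * γ ^ k) :
    ∃ δ ∈ L, ∀ α ∈ L, ∃ (k : ℕ) (x : X), α = MulAut.conj x * δ ^ k := by
  have := normal_inn (X := X)
  let π := QuotientGroup.mk' (MulAut.conj : X →* MulAut X).range
  have h1 : L.map π ≤ zpowers (π γ) := by
    rintro _ ⟨α, hα, rfl⟩
    obtain ⟨k, x, rfl⟩ := h α hα
    have h2 : π (MulAut.conj x) = 1 := (QuotientGroup.eq_one_iff _).2 ⟨x, rfl⟩
    rw [map_mul, h2, one_mul, map_pow]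
    exact npow_mem_zpowers _ _
  obtain ⟨n, hn⟩ := (le_zpowers_iff _ _).1 h1
  obtain ⟨δ, hδ, e⟩ : π γ ^ n ∈ L.map π := hn ▸ mem_zpowers _
  refine ⟨δ, hδ, fun α hα => ?_⟩
  have h2 : π α ∈ zpowers (π δ) := by
    rw [e, ← hn]
    exact mem_map_of_mem _ hα
  obtain ⟨k, hk⟩ := mem_powers_iff_mem_zpowers.2 h2
  have h3 : π (α * (δ ^ k)⁻¹) = 1 := by
    rw [map_mul, map_inv, map_pow, ← show π δ ^ k = π α from hk, mul_inv_cancel]
  obtain ⟨x, hx⟩ := (QuotientGroup.eq_one_iff _).1 h3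
  exact ⟨k, x, by rw [hx, inv_mul_cancel_right]⟩

theorem conj_mul_pow (x : X) (β : MulAut X) (m : ℕ) : ∃ y : X, (MulAut.conj x * β) ^ m = MulAut.conj y * β ^ m := by
  induction m with
  | zero => exact ⟨1, by simp⟩
  | succ m ih =>
    obtain ⟨y, hy⟩ := ih
    refine ⟨x * β y, ?_⟩
    rw [pow_succ', hy, map_mul, conj_map, pow_succ']
    group

theorem oi_comp {G : Type} [Group G] {χ : G → ℂ} (h : OI G χ) (α : MulAut G) : OI G fun x => χ (α x) := by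
  refine ⟨isIrr_comp α.toMonoidHom α.surjective h.1, ?_⟩
  have h2 := h.2
  unfold charDegree at h2 ⊢
  simpa only [map_one] using h2

theorem sa_comp (hf : ∀ α ∈ Λ, ∀ z ∈ center X, α z = z) {l θ : X → ℂ} (h : θ ∈ SA Λ l) {α : MulAut X} (hα : α ∈ Λ) :
    (fun x => θ (α x)) ∈ SA Λ l := by
  refine ⟨oi_comp h.1 α, fun z hz => by simp only [hf α hα z hz, map_one, h.2.1 z hz], fun β hβ ⟨k, hk⟩ x => ?_⟩
  have h1 := h.2.2 (α * β * α⁻¹) (mul_mem (mul_mem hα hβ) (inv_mem hα)) ⟨k, by rw [conj_pow, hk]; simp⟩ (α x)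
  simpa using h1

theorem sb_comp (hf : ∀ α ∈ Λ, ∀ z ∈ center X, α z = z) {l : X → ℂ} {ψ : In Λ → ℂ} (h : ψ ∈ SB Λ l) (α : Λ) :
    (fun y => ψ (rs Λ α y)) ∈ SB Λ l := by
  refine ⟨oi_comp h.1 (rs Λ α), fun z hz => ?_, fun β ⟨k, hk⟩ y => ?_⟩
  · have h1 : rs Λ α z = z := Subtype.ext (hf α α.2 z hz)
    simp only [h1, map_one, h.2.1 z hz]
  · have h1 := h.2.2 (α * β * α⁻¹) ⟨k, by rw [conj_pow, hk]; simp⟩ (rs Λ α y)
    simpa using h1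

/-- the action on `SA` -/
@[reducible] def actA (hf : ∀ α ∈ Λ, ∀ z ∈ center X, α z = z) (l : X → ℂ) : MulAction Λ (SA Λ l) where
  smul α θ := ⟨fun x => θ.1 (α⁻¹.1 x), sa_comp hf θ.2 α⁻¹.2⟩
  one_smul _ := rfl
  mul_smul _ _ _ := rfl

/-- the action on `SB` -/
@[reducible] def actB (hf : ∀ α ∈ Λ, ∀ z ∈ center X, α z = z) (l : X → ℂ) : MulAction Λ (SB Λ l) where
  smul α ψ := ⟨fun y => ψ.1 (rs Λ α⁻¹ y), sb_comp hf ψ.2 α⁻¹⟩
  one_smul _ := rfl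
  mul_smul _ _ _ := rfl

theorem finite_oi {G : Type} [Group G] [Finite G] {s : Set (G → ℂ)} (h : ∀ χ ∈ s, OI G χ) : Finite s := by
  have := finite_irr (G := G)
  exact Finite.of_injective (fun χ : s => (⟨χ.1, (h _ χ.2).1⟩ : IrrCharacter G))
    fun a b e => Subtype.ext (congrArg (fun u : IrrCharacter G => u.1) e)

/-- the number of the members of `SA` which are fixed by `L` -/
noncomputable def mA (Λ L : Subgroup (MulAut X)) (l : X → ℂ) : ℕ :=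
  Nat.card {θ : X → ℂ // θ ∈ SA Λ l ∧ ∀ α ∈ L, ∀ x, θ (α x) = θ x}

/-- the number of the members of `SB` which are fixed by `L` -/
noncomputable def mB (Λ L : Subgroup (MulAut X)) (l : X → ℂ) : ℕ :=
  Nat.card {ψ : In Λ → ℂ // ψ ∈ SB Λ l ∧ ∀ α ∈ L, ∀ y y' : In Λ, (y' : X) = α y → ψ y' = ψ y}

/-- **equal marks give an equivariant bijection** -/
theorem exists_equi [Finite X] (hf : ∀ α ∈ Λ, ∀ z ∈ center X, α z = z) (l : X → ℂ)
    (h : ∀ L ≤ Λ, mA Λ L l = mB Λ L l) : ∃ Ω : (X → ℂ) → In Λ → ℂ, Set.BijOn Ω (SA Λ l) (SB Λ l) ∧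
      ∀ θ ∈ SA Λ l, ∀ (α : Λ) (y : In Λ), Ω (fun x => θ (α.1 x)) y = Ω θ (rs Λ α y) := by
  classical
  let _ := actA hf l
  let _ := actB hf l
  have := finite_oi (s := SA Λ l) fun _ h => h.1
  have := finite_oi (s := SB Λ l) fun _ h => h.1
  obtain ⟨e, he⟩ := H980.exists_equiv_of_mark_eq (D := Λ) (SA Λ l) (SB Λ l) fun L => by
    have h1 : H980.mark (SA Λ l) L = mA Λ (L.map Λ.subtype) l := by
      refine Nat.card_congr ⟨fun θ => ⟨θ.1.1, θ.1.2, ?_⟩, fun θ => ⟨⟨θ.1, θ.2.1⟩, fun α hα => ?_⟩, fun _ => rfl,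
        fun _ => rfl⟩
      · rintro _ ⟨α, hα, rfl⟩ x
        exact congrFun (congrArg Subtype.val (θ.2 α⁻¹ (inv_mem hα))) x
      · exact Subtype.ext (funext fun x => θ.2.2 _ ⟨α⁻¹, inv_mem hα, rfl⟩ x)
    have h2 : H980.mark (SB Λ l) L = mB Λ (L.map Λ.subtype) l := by
      refine Nat.card_congr ⟨fun ψ => ⟨ψ.1.1, ψ.1.2, ?_⟩, fun ψ => ⟨⟨ψ.1, ψ.2.1⟩, fun α hα => ?_⟩, fun _ => rfl,
        fun _ => rfl⟩
      · rintro _ ⟨α, hα, rfl⟩ y y' hy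
        rw [show y' = rs Λ α y from Subtype.ext hy]
        exact congrFun (congrArg Subtype.val (ψ.2 α⁻¹ (inv_mem hα))) y
      · exact Subtype.ext (funext fun y => ψ.2.2 _ ⟨α⁻¹, inv_mem hα, rfl⟩ y _ rfl)
    rw [h1, h2]
    exact h _ (map_subtype_le L)
  let Ω : (X → ℂ) → In Λ → ℂ := fun θ => if h : θ ∈ SA Λ l then (e ⟨θ, h⟩).1 else 0
  have hΩ : ∀ θ (h : θ ∈ SA Λ l), Ω θ = (e ⟨θ, h⟩).1 := fun θ h => dif_pos h
  refine ⟨Ω, ⟨fun θ h => hΩ θ h ▸ (e ⟨θ, h⟩).2, fun θ h θ' h' hh => ?_, fun ψ h => ?_⟩, fun θ h α y => ?_⟩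
  · rw [hΩ θ h, hΩ θ' h'] at hh
    exact congrArg Subtype.val (e.injective (Subtype.ext hh))
  · refine ⟨(e.symm ⟨ψ, h⟩).1, (e.symm ⟨ψ, h⟩).2, ?_⟩
    rw [hΩ _ (e.symm ⟨ψ, h⟩).2]
    exact congrArg Subtype.val (e.apply_symm_apply ⟨ψ, h⟩)
  · rw [hΩ _ (sa_comp hf h α.2), hΩ θ h]
    exact congrFun (congrArg Subtype.val (he α⁻¹ ⟨θ, h⟩)) y

/-- from an equivariant bijection: the stabiliser of `θ` fixes `Ω θ` -/
theorem st_fix {l : X → ℂ} {Ω : (X → ℂ) → In Λ → ℂ}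
    (h : ∀ θ ∈ SA Λ l, ∀ (α : Λ) (y : In Λ), Ω (fun x => θ (α.1 x)) y = Ω θ (rs Λ α y)) {θ : X → ℂ}
    (hθ : θ ∈ SA Λ l) {α : MulAut X} (hα : α ∈ St Λ θ) (y y' : In Λ) (hy : (y' : X) = α y) : Ω θ y' = Ω θ y := by
  rw [show y' = rs Λ ⟨α, hα.1⟩ y from Subtype.ext hy, ← h θ hθ, funext hα.2]

/-- **equal marks and the extension property for all invariant pairs give `CD`** -/
theorem exists_cd [Finite X] (hf : ∀ α ∈ Λ, ∀ z ∈ center X, α z = z) (l : X → ℂ)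
    (h : ∀ L ≤ Λ, mA Λ L l = mB Λ L l)
    (hx : ∀ θ ∈ SA Λ l, ∀ ψ ∈ SB Λ l, (∀ α ∈ St Λ θ, ∀ y y' : In Λ, (y' : X) = α y → ψ y' = ψ y) →
      ExtOn Λ (St Λ θ) θ ψ) : ∃ Ω, CD Λ l Ω := by
  obtain ⟨Ω, h1, h2⟩ := exists_equi hf l h
  exact ⟨Ω, h1, h2, fun θ hθ => hx θ hθ _ (h1.1 hθ) fun α hα => st_fix h2 hθ hα⟩

theorem fix_pow {θ : X → ℂ} (hθ : IsClassFunction X θ) {δ : MulAut X} (h : ∀ x, θ (δ x) = θ x) (k : ℕ) (x y : X) :
    θ ((MulAut.conj x * δ ^ k) y) = θ y := by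
  refine (hθ _ x).trans ?_
  induction k with
  | zero => rfl
  | succ k ih => rw [pow_succ']; exact (h _).trans ih

theorem fix_pow' {ψ : In Λ → ℂ} (hψ : IsClassFunction (In Λ) ψ) {δ : Λ} (h : ∀ y, ψ (rs Λ δ y) = ψ y) {k : ℕ} {x : X}
    {α : Λ} (e : α.1 = MulAut.conj x * δ.1 ^ k) (y : In Λ) : ψ (rs Λ α y) = ψ y := by
  have hx : x ∈ In Λ := by
    change MulAut.conj x ∈ Λ
    rw [eq_mul_inv_of_mul_eq e.symm]
    exact mul_mem α.2 (inv_mem (pow_mem δ.2 k))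
  have h1 : rs Λ α y = ⟨x, hx⟩ * rs Λ (δ ^ k) y * ⟨x, hx⟩⁻¹ := Subtype.ext (by rw [rs_coe, e]; rfl)
  rw [h1, hψ]
  clear h1 e
  induction k with
  | zero => rw [pow_zero, map_one]; rfl
  | succ k ih => rw [pow_succ', map_mul]; exact (h _).trans ih

/-- **the cyclic step** -/
theorem stepCyc (h : StepC) : StepCyc := by
  intro X _ _ Γ Λ s sp ⟨γ, _, hγ⟩ hc
  have hf : ∀ α ∈ Λ, ∀ z ∈ center X, α z = z := fun α hα => s.fix α (sp.le hα)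
  refine h X Γ Λ s sp fun l hl => exists_cd hf l (fun L hL => ?_) fun θ hθ ψ hψ hfix => ?_
  · let T : Set (MulAut X) := {α | α ∈ Λ ∧ ∃ k : ℕ, α ^ 2 ^ k = 1}
    have hL' : L ⊔ Subgroup.closure T ≤ Λ := sup_le hL ((closure_le _).2 fun α hα => hα.1)
    obtain ⟨δ, hδ, hg⟩ := cyc_sub (γ := γ) (L := L ⊔ Subgroup.closure T) fun α hα => hγ α (sp.le (hL' hα))
    have hT : ∀ α ∈ Λ, (∃ k : ℕ, α ^ 2 ^ k = 1) → α ∈ L ⊔ Subgroup.closure T := fun α h1 h2 =>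
      mem_sup_right (subset_closure ⟨h1, h2⟩)
    have hb : Big Γ δ := by
      intro β hβ
      obtain ⟨x, β', hβ', rfl⟩ := sp.sup β hβ
      obtain ⟨k, m, hm, e⟩ := Nat.exists_eq_two_pow_mul_odd (orderOf_pos β').ne'
      obtain ⟨n, y, hy⟩ := hg (β' ^ m) (hT _ (pow_mem hβ' m) ⟨k, by rw [← pow_mul, mul_comm, ← e, pow_orderOf_eq_one]⟩)
      obtain ⟨z, hz⟩ := conj_mul_pow x β' m
      exact ⟨m, n, z * y, hm, by rw [hz, hy, map_mul, mul_assoc]⟩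
    have h1 : mA Λ L l = fA l δ := by
      refine Nat.card_congr (Equiv.subtypeEquivRight fun θ => ⟨fun hθ => ⟨hθ.1.1, hθ.1.2.1, ?_⟩, fun hθ => ?_⟩)
      · have h2 : L ⊔ Subgroup.closure T ≤ St Λ θ :=
          sup_le (fun α hα => ⟨hL hα, hθ.2 α hα⟩) ((closure_le _).2 fun α hα => ⟨hα.1, hθ.1.2.2 α hα.1 hα.2⟩)
        exact (h2 hδ).2
      · have h2 : ∀ α ∈ L ⊔ Subgroup.closure T, ∀ x, θ (α x) = θ x := fun α hα x => by
          obtain ⟨k, y, rfl⟩ := hg α hα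
          exact fix_pow (isIrr_isClassFunction hθ.1.1) hθ.2.2 k y x
        exact ⟨⟨hθ.1, hθ.2.1, fun α h3 h4 => h2 α (hT α h3 h4)⟩, fun α hα => h2 α (mem_sup_left hα)⟩
    have h2 : mB Λ L l = fB (In Λ) l δ := by
      refine Nat.card_congr (Equiv.subtypeEquivRight fun ψ => ⟨fun hψ => ⟨hψ.1.1, hψ.1.2.1, ?_⟩, fun hψ => ?_⟩)
      · have h2 : L ⊔ Subgroup.closure T ≤ ((St ⊤ ψ).comap (rs Λ)).map Λ.subtype :=
          sup_le (fun α hα => ⟨⟨α, hL hα⟩, ⟨trivial, fun y => hψ.2 α hα y _ rfl⟩, rfl⟩)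
            ((closure_le _).2 fun α hα => ⟨⟨α, hα.1⟩, ⟨trivial, hψ.1.2.2 ⟨α, hα.1⟩
              (hα.2.imp fun k hk => Subtype.ext hk)⟩, rfl⟩)
        obtain ⟨δ', h3, rfl⟩ := h2 hδ
        intro y y' hy
        rw [show y' = rs Λ δ' y from Subtype.ext hy]
        exact h3.2 y
      · have h2 : ∀ α : Λ, α.1 ∈ L ⊔ Subgroup.closure T → ∀ y, ψ (rs Λ α y) = ψ y := fun α hα y => by
          obtain ⟨k, x, e⟩ := hg α hα
          exact fix_pow' (δ := ⟨δ, hL' hδ⟩) (isIrr_isClassFunction hψ.1.1) (fun y => hψ.2.2 y _ rfl) e y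
        refine ⟨⟨hψ.1, hψ.2.1, fun α h4 => h2 α (hT α α.2 (h4.imp fun k hk => congrArg Subtype.val hk))⟩,
          fun α hα y y' hy => ?_⟩
        rw [show y' = rs Λ ⟨α, hL hα⟩ y from Subtype.ext hy]
        exact h2 ⟨α, hL hα⟩ (mem_sup_left hα) y
    rw [h1, h2]
    exact hc l hl δ (hL' hδ) hb
  · obtain ⟨δ, hδ, hg⟩ := cyc_sub (γ := γ) (L := St Λ θ) fun α hα => hγ α (sp.le hα.1)
    exact extOn_cyc (S := St Λ θ) (fun α hα => hα.1) hθ.1.1 hψ.1.1 (sc_of hθ.1.1 hθ.2.1 hψ.2.1) hδ hδ.2 (hfix δ hδ) hg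

theorem index_center_le [Finite X] (h : ∀ x : X, MulAut.conj x ∈ Γ) : (center X).index ≤ Nat.card Γ := by
  have h1 : (MulAut.conj : X →* MulAut X).ker = center X := Subgroup.ext fun x => conj_eq_one_iff
  rw [← h1, index_ker]
  exact card_le_of_le (by rintro _ ⟨x, rfl⟩; exact h x)

theorem in_nm (h : ∀ x : X, MulAut.conj x ∈ Γ) (Q : Subgroup X) : In (Nm Γ Q) = normalizer (Q : Set X) := by
  ext x
  rw [mem_normalizer_iff]
  exact ⟨fun hx y => (hx.2 y).symm, fun hx => ⟨h x, fun y => (hx y).symm⟩⟩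

/-- the Frattini argument -/
theorem supp_nm [Finite X] (h : ∀ x : X, MulAut.conj x ∈ Γ) {p : ℕ} [Fact p.Prime] (Q : Sylow p X) :
    Supp Γ (Nm Γ Q) := by
  refine ⟨fun α hα => hα.1, fun α hα => ?_⟩
  obtain ⟨x, hx⟩ := MulAction.exists_smul_eq X Q (α • Q)
  refine ⟨x, (MulAut.conj x)⁻¹ * α, ⟨mul_mem (inv_mem (h x)) hα, fun y => ?_⟩, by group⟩
  have h1 : α y ∈ ((α • Q : Sylow p X) : Subgroup X) ↔ y ∈ (Q : Subgroup X) := by
    rw [Sylow.pointwise_smul_def]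
    exact smul_mem_pointwise_smul_iff (a := α)
  rw [← h1, ← hx, Sylow.coe_subgroup_smul, mem_pointwise_smul_iff_inv_smul_mem]
  rfl

theorem nm_ne [Finite X] (s : Sit X Γ) (Q : Sylow 2 X) : Nm Γ Q ≠ Γ := by
  intro h
  have hn : (Q : Subgroup X).Normal := ⟨fun y hy x => ((h.ge (s.inn x)).2 y).2 hy⟩
  apply SignalizersComponents.Components.quasisimple_not_isSolvable s.qs
  rcases SignalizersComponents.Components.quasisimple_normal s.qs _ hn with h1 | h1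
  · have h2 : IsPGroup 2 X := (h1 ▸ Q.isPGroup' : IsPGroup 2 (⊤ : Subgroup X)).of_equiv topEquiv
    have := h2.isNilpotent
    infer_instance
  · refine S0205.result ?_
    have h2 : Odd (Nat.card Q) := s.odd.of_dvd_nat (card_dvd_of_le h1)
    rw [← (Q : Subgroup X).card_mul_index]
    exact h2.mul (Nat.odd_iff.2 (Nat.two_dvd_ne_zero.1 Q.not_dvd_index))

/-- **the small rows** -/
theorem stepSm (h : StepCyc) : StepSm := by
  intro X _ _ Γ s hs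
  obtain ⟨⟨γ, hγ⟩, Q, hQ⟩ := hs fun G _ _ Z hZ hi => s.ih G Z hZ (hi.trans_le (index_center_le s.inn))
  refine ⟨Nm Γ Q, Q, fun α hα => hα.1, nm_ne s Q, le_rfl, h X Γ _ s (supp_nm s.inn Q)
    (cyc_sub (γ := γ) fun α hα => hγ α (s.fix α hα)) fun l hl α hα _ => ?_⟩
  rw [in_nm s.inn]
  exact hQ l hl α (s.fix α hα.1) hα.2

end Cfsg.Agent.MK.E
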