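import Cfsg.Agent.MK.E.Cyc
import Cfsg.Agent.S0866
import Cfsg.Agent.ODD.Red.Bas

/-!
# MK/E: criteria for `ExtOn` (helper75)

* `extOn_sylow` : it is enough to consider subgroups of prime power order;
* `extOn_of_ext` : `θ` and `ψ` extend to groups which induce `S`;
* `ExS φ θ` : `θ` extends to the semidirect product; `exS_of`, `exS_coprime`, `exS_cyc`;
* `extOn_split`, `extOn_coprime`, `extOn_two` : the split case;
* `extOn_meta` : extensions to `B`, `C` which an automorphism twists by the same function;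
* `ExtOn.conj`.
-/

set_option autoImplicit false

namespace Cfsg.Agent.MK.E

open Cfsg Subgroup Cfsg.Agent.MK Cfsg.Agent.Characters.Core
open scoped ComplexConjugate

section exs

variable {H P : Type} [Group H] [Group P] {φ : P →* MulAut H} {θ : H → ℂ}

/-- `θ` extends to the semidirect product -/
def ExS (φ : P →* MulAut H) (θ : H → ℂ) : Prop :=
  ∃ Θ : H ⋊[φ] P → ℂ, IsCharacter (H ⋊[φ] P) Θ ∧ ∀ x, Θ (SemidirectProduct.inl x) = θ x

theorem exS_of {B : Type} [Group B] (i : H →* B) (t : P →* B) (h : ∀ p x, t p * i x = i (φ p x) * t p) {Θ : B → ℂ}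
    (hΘ : IsCharacter B Θ) (hi : ∀ x, Θ (i x) = θ x) : ExS φ θ := by
  refine ⟨_, isCharacter_comp (SemidirectProduct.lift i t fun p => MonoidHom.ext fun x => ?_) hΘ, fun x => ?_⟩
  · change i (φ p x) = t p * i x * (t p)⁻¹
    rw [h, mul_inv_cancel_right]
  · simp [hi]

theorem ExS.comp {P' : Type} [Group P'] (h : ExS φ θ) (f : P' →* P) : ExS (φ.comp f) θ := by
  obtain ⟨Θ, hΘ, h⟩ := h
  refine exS_of SemidirectProduct.inl (SemidirectProduct.inr.comp f) (fun p x => ?_) hΘ h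
  simp only [MonoidHom.comp_apply]
  rw [SemidirectProduct.inl_aut, map_inv, inv_mul_cancel_right]

/-- the normal factor -/
def NS (φ : P →* MulAut H) : Subgroup (H ⋊[φ] P) := SemidirectProduct.rightHom.ker

theorem normal_NS : (NS φ).Normal := MonoidHom.normal_ker _

theorem index_NS : (NS φ).index = Nat.card P := by
  rw [NS, index_ker, MonoidHom.range_eq_top.2 SemidirectProduct.rightHom_surjective, card_top]

/-- the projection of the normal factor -/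
def lf : NS φ →* H :=
  MonoidHom.mk' (fun g => g.1.left) fun g h => by
    have h1 : g.1.right = 1 := g.2
    change g.1.left * φ g.1.right h.1.left = _
    rw [h1, map_one]
    rfl

theorem lf_surj : Function.Surjective (lf (φ := φ)) := fun x => ⟨⟨SemidirectProduct.inl x, rfl⟩, rfl⟩

theorem lf_conj (g : H ⋊[φ] P) (n : NS φ) :
    lf ⟨g * n.1 * g⁻¹, normal_NS.conj_mem n.1 n.2 g⟩ = g.left * φ g.right (lf n) * g.left⁻¹ := by
  have h1 : n.1.right = 1 := n.2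
  change (g * n.1 * g⁻¹).left = g.left * φ g.right n.1.left * g.left⁻¹
  simp [h1]

theorem inv_NS (hθ : IsClassFunction H θ) (hinv : ∀ p x, θ (φ p x) = θ x) (g : H ⋊[φ] P) (n : NS φ) :
    (θ ∘ lf) ⟨g * n.1 * g⁻¹, normal_NS.conj_mem n.1 n.2 g⟩ = (θ ∘ lf) n := by
  rw [Function.comp, Function.comp, lf_conj, hθ, hinv]

theorem exS_of_NS {χ : H ⋊[φ] P → ℂ} (hχ : IsCharacter _ χ) (h : ∀ n : NS φ, χ n = (θ ∘ lf) n) : ExS φ θ :=
  ⟨χ, hχ, fun x => h ⟨SemidirectProduct.inl x, rfl⟩⟩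

variable [Finite H] [Finite P]

theorem finite_sd : Finite (H ⋊[φ] P) := Finite.of_equiv _ (SemidirectProduct.equivProd (φ := φ)).symm

/-- **coprime degree** -/
theorem exS_coprime (hθ : IsIrrCharacter H θ) (hinv : ∀ p x, θ (φ p x) = θ x) {d : ℕ} (hd : θ 1 = d)
    (hc : (Nat.card P).Coprime d) : ExS φ θ := by
  have := finite_sd (φ := φ)
  have := normal_NS (φ := φ)
  have h1 := isIrr_isCharacter hθ
  have h2 : ∀ p x, ODD.Red.dH θ (φ p x) = ODD.Red.dH θ x := fun p x => by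
    rw [← show ODD.Red.dH (fun x => θ ((φ p).toMonoidHom x)) x = ODD.Red.dH θ (φ p x) from ODD.Red.dH_comp (φ p).toMonoidHom h1 x]
    exact congrArg (fun f => ODD.Red.dH f x) (funext (hinv p))
  let μ : H ⋊[φ] P →* ℂˣ := MonoidHom.mk' (fun g => ODD.Red.dH θ g.left) fun g h => by
    rw [SemidirectProduct.mul_left, map_mul, h2]
  obtain ⟨χ, hχ, hr⟩ := (S0866.result (NS φ) _ (isIrr_comp lf lf_surj hθ) (inv_NS (isIrr_isClassFunction hθ) hinv) d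
    (by rw [Function.comp, map_one, hd]) (by rw [index_NS]; exact hc)).2
    ⟨fun g => μ g, Characters.Linear.isCharacter_hom μ, by simp, fun n => by
      rw [← ODD.Red.dH_eq_detChar (isCharacter_comp lf h1)]
      exact congrArg Units.val (ODD.Red.dH_comp lf h1 n).symm⟩
  exact exS_of_NS (isIrr_isCharacter hχ) hr

/-- **cyclic groups** -/
theorem exS_cyc [IsCyclic P] (hθ : IsIrrCharacter H θ) (hinv : ∀ p x, θ (φ p x) = θ x) : ExS φ θ := by
  have := finite_sd (φ := φ)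
  have := normal_NS (φ := φ)
  have hc : IsCyclic ((H ⋊[φ] P) ⧸ NS φ) :=
    isCyclic_of_surjective (QuotientGroup.quotientKerEquivOfSurjective _
      (SemidirectProduct.rightHom_surjective (φ := φ))).symm (MulEquiv.surjective _)
  obtain ⟨χ, hχ, hr⟩ := S0886.result (NS φ) hc _ (isIrr_comp lf lf_surj hθ) (inv_NS (isIrr_isClassFunction hθ) hinv)
  exact exS_of_NS (isIrr_isCharacter hχ) hr

end exs

variable {X : Type} [Group X] [Finite X] {Λ S : Subgroup (MulAut X)} {θ : X → ℂ} {ψ : In Λ → ℂ}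

/-- **Sylow-wise**: subgroups of prime power order are enough -/
theorem extOn_sylow (hS : S ≤ Λ) (hθ : IsIrrCharacter X θ) (hψ : IsIrrCharacter (In Λ) ψ) (hz : Sc Λ θ ψ)
    (hθS : ∀ α ∈ S, ∀ x, θ (α x) = θ x) (hψS : ∀ α ∈ S, ∀ y y' : In Λ, (y' : X) = α y → ψ y' = ψ y)
    (h : ∀ r : ℕ, r.Prime → ∀ R ≤ S, IsPGroup r R → ExtOn Λ R θ ψ) : ExtOn Λ S θ ψ := by
  refine ext_syl hS hθ hψ hz hθS hψS fun r hr => ?_
  have := Fact.mk hr
  obtain ⟨R⟩ : Nonempty (Sylow r S) := inferInstance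
  have h1 : (R : Subgroup S).map S.subtype ≤ S := map_subtype_le _
  refine ⟨_, le_sup_left, ?_, (h r hr _ h1 (R.isPGroup'.map _)).sup (h1.trans hS)⟩
  refine ((Nat.Prime.coprime_iff_not_dvd hr).2 fun h2 => R.not_dvd_index (h2.trans ?_)).symm
  exact index_dvd_of_le fun α hα => mem_sup_right (mem_map_of_mem _ hα)

/-- the same with one subgroup for each prime -/
theorem extOn_sylow' (hS : S ≤ Λ) (hθ : IsIrrCharacter X θ) (hψ : IsIrrCharacter (In Λ) ψ) (hz : Sc Λ θ ψ)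
    (hθS : ∀ α ∈ S, ∀ x, θ (α x) = θ x) (hψS : ∀ α ∈ S, ∀ y y' : In Λ, (y' : X) = α y → ψ y' = ψ y)
    (h : ∀ r : ℕ, r.Prime → ∃ R ≤ Λ, ¬ r ∣ (Cj (In Λ) ⊔ R).relIndex S ∧ ExtOn Λ R θ ψ) : ExtOn Λ S θ ψ := by
  refine ext_syl hS hθ hψ hz hθS hψS fun r hr => ?_
  obtain ⟨R, h1, h2, h3⟩ := h r hr
  exact ⟨_, le_sup_left, ((Nat.Prime.coprime_iff_not_dvd hr).2 h2).symm, h3.sup h1⟩

theorem extOn_inn (hθ : IsCharacter X θ) (hψ : IsCharacter (In Λ) ψ) (hz : Sc Λ θ ψ) (hS : S ≤ Cj (In Λ)) :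
    ExtOn Λ S θ ψ := by
  obtain ⟨A, _, j, t, Ψ, hΨ, w, hj⟩ := exists_wit_inn hθ hψ hz hS
  exact extOn_mk w hΨ hj

theorem sc_mul (hθ : IsCharacter X θ) (hψ : IsCharacter (In Λ) ψ) (hz : Sc Λ θ ψ) {k : In Λ}
    (hk : MulAut.conj (k : X) = 1) (x : X) (y : In Λ) : θ (x * k) * conj (ψ (y * k)) = θ x * conj (ψ y) := by
  obtain ⟨A, _, j, t, Ψ, -, w, hj⟩ := exists_wit_inn (S := ⊥) hθ hψ hz bot_le
  rw [← hj, ← hj, ← Prod.mk_mul_mk, map_mul, ← w.inn k (mem_bot.2 hk), Subsingleton.elim (⟨_, mem_bot.2 hk⟩ : (⊥ :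
    Subgroup (MulAut X))) 1, map_one, mul_one]

omit [Finite X] in
/-- **extensions to groups which induce `S`** -/
theorem extOn_of_ext {B C : Type} [Group B] [Finite B] [Group C] [Finite C] (i : X →* B) (i' : In Λ →* C) (f : C →* B)
    (a : C →* MulAut X) (hf : ∀ y, f (i' y) = i y) (hi : ∀ y : In Λ, a (i' y) = MulAut.conj (y : X))
    (ha : ∀ c x, f c * i x = i (a c x) * f c) (ha' : ∀ c (y y' : In Λ), (y' : X) = a c y → c * i' y = i' y' * c)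
    {Θ : B → ℂ} (hΘ : IsCharacter B Θ) {Ψ : C → ℂ} (hΨ : IsCharacter C Ψ) (h1 : ∀ x, Θ (i x) = θ x)
    (h2 : ∀ y, Ψ (i' y) = ψ y) (hker : ∀ c, a c = 1 → Θ (f c) * conj (Ψ c) = Θ 1 * conj (Ψ 1))
    (hS : ∀ α ∈ S, ∃ c, a c = α) : ExtOn Λ S θ ψ := by
  obtain ⟨A, _, j, t, Ξ, hΞ, w, h⟩ := exists_wit (S := S) i i' f a hf hi ha ha' hΘ hΨ hker hS
  refine extOn_mk w hΞ fun x y => ?_
  have h3 := h x y 1 (by rw [map_one]; exact one_mem _)
  rw [show (⟨a 1, by rw [map_one]; exact one_mem _⟩ : S) = 1 from Subtype.ext (map_one _), map_one, map_one, mul_one,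
    mul_one, mul_one, h1, h2] at h3
  exact h3

/-- the action of `S ≤ Λ` on `In Λ` -/
def rsS (hS : S ≤ Λ) : S →* MulAut (In Λ) := (rs Λ).comp (inclusion hS)

omit [Finite X] in
theorem rsS_coe (hS : S ≤ Λ) (α : S) (y : In Λ) : (rsS hS α y : X) = α.1 y := rfl

/-- **the split case** -/
theorem extOn_split (hS : S ≤ Λ) (hn : ∀ k : In Λ, MulAut.conj (k : X) ∈ S → MulAut.conj (k : X) = 1)
    (hz : Sc Λ θ ψ) (h1 : ExS S.subtype θ) (h2 : ExS (rsS hS) ψ) : ExtOn Λ S θ ψ := by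
  obtain ⟨Θ, hΘ, h1⟩ := h1
  obtain ⟨Ψ, hΨ, h2⟩ := h2
  have := finite_sd (φ := rsS hS)
  have hθ : IsCharacter X θ := funext h1 ▸ isCharacter_comp SemidirectProduct.inl hΘ
  have hψ : IsCharacter (In Λ) ψ := funext h2 ▸ isCharacter_comp SemidirectProduct.inl hΨ
  let κ : F hS →* (X ⋊[S.subtype] S) × (In Λ ⋊[rsS hS] S) :=
    MonoidHom.mk' (fun g => (⟨g.left.1, g.right⟩, ⟨g.left.2, g.right⟩)) fun _ _ => rfl
  refine extOn_of_char hS (isCharacter_comp κ (S0188.isCharacter_outer hΘ (isCharacter_conj hΨ))) fun g k hk => ?_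
  have h3 := hn k (hk ▸ g.right.2)
  have h4 : g.right = 1 := Subtype.ext (hk.trans h3)
  rw [sc_mul hθ hψ hz h3, ← h1, ← h2]
  change Θ ⟨g.left.1, g.right⟩ * conj (Ψ ⟨g.left.2, g.right⟩) = _
  rw [h4]
  rfl

/-- the split case with coprime degrees -/
theorem extOn_coprime (hS : S ≤ Λ) (hn : ∀ k : In Λ, MulAut.conj (k : X) ∈ S → MulAut.conj (k : X) = 1)
    (hθ : IsIrrCharacter X θ) (hψ : IsIrrCharacter (In Λ) ψ) (hz : Sc Λ θ ψ) (hθS : ∀ α ∈ S, ∀ x, θ (α x) = θ x)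
    (hψS : ∀ α ∈ S, ∀ y y' : In Λ, (y' : X) = α y → ψ y' = ψ y) {d e : ℕ} (hd : θ 1 = d) (he : ψ 1 = e)
    (h1 : (Nat.card S).Coprime d) (h2 : (Nat.card S).Coprime e) : ExtOn Λ S θ ψ :=
  extOn_split hS hn hz (exS_coprime hθ (fun α => hθS α.1 α.2) hd h1)
    (exS_coprime hψ (fun α y => hψS α.1 α.2 y _ rfl) he h2)

theorem oi_deg {G : Type} [Group G] {χ : G → ℂ} (h : OI G χ) : ∃ d : ℕ, Odd d ∧ χ 1 = d := by
  obtain ⟨d, -, hd⟩ := isIrr_apply_one h.1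
  have h2 := h.2
  rw [charDegree, hd, Complex.natCast_re, Nat.floor_natCast] at h2
  exact ⟨d, h2, hd⟩

/-- the split case for a `2`-group and odd degrees -/
theorem extOn_two (hS : S ≤ Λ) (h2 : IsPGroup 2 S)
    (hn : ∀ k : In Λ, MulAut.conj (k : X) ∈ S → MulAut.conj (k : X) = 1) (hθ : OI X θ) (hψ : OI (In Λ) ψ)
    (hz : Sc Λ θ ψ) (hθS : ∀ α ∈ S, ∀ x, θ (α x) = θ x)
    (hψS : ∀ α ∈ S, ∀ y y' : In Λ, (y' : X) = α y → ψ y' = ψ y) : ExtOn Λ S θ ψ := by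
  obtain ⟨d, h3, hd⟩ := oi_deg hθ
  obtain ⟨e, h4, he⟩ := oi_deg hψ
  obtain ⟨n, hn'⟩ := IsPGroup.iff_card.1 h2
  exact extOn_coprime hS hn hθ.1 hψ.1 hz hθS hψS hd he (hn' ▸ (Nat.coprime_two_left.2 h3).pow_left n)
    (hn' ▸ (Nat.coprime_two_left.2 h4).pow_left n)

/-- **the metacyclic case**, general form -/
theorem extOn_meta' {B C : Type} [Group B] [Finite B] [Group C] [Finite C] (i : X →* B) (i' : In Λ →* C) (f : C →* B)
    (a : C →* MulAut X) (hf : ∀ y, f (i' y) = i y) (hi : ∀ y : In Λ, a (i' y) = MulAut.conj (y : X))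
    (ha : ∀ c x, f c * i x = i (a c x) * f c) (ha' : ∀ c (y y' : In Λ), (y' : X) = a c y → c * i' y = i' y' * c)
    (haΛ : ∀ c, a c ∈ Λ) (hθ : IsIrrCharacter X θ) (hψ : IsIrrCharacter (In Λ) ψ)
    {Θ : B → ℂ} (hΘ : IsCharacter B Θ) {Ψ : C → ℂ} (hΨ : IsCharacter C Ψ) (h1 : ∀ x, Θ (i x) = θ x)
    (h2 : ∀ y, Ψ (i' y) = ψ y) (hker : ∀ c, a c = 1 → Θ (f c) * conj (Ψ c) = Θ 1 * conj (Ψ 1))
    {φ : MulAut X} (hφ : φ ∈ Λ) (hinv : ∀ c, ∃ c', a c' = φ * a c * φ⁻¹ ∧ ∀ (x : X) (y y' : In Λ), (y' : X) = φ y →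
      Θ (i (φ x) * f c') * conj (Ψ (i' y' * c')) = Θ (i x * f c) * conj (Ψ (i' y * c)))
    (hS : ∀ α ∈ S, ∃ (c : C) (k : ℕ), α = a c * φ ^ k) : ExtOn Λ S θ ψ := by
  obtain ⟨A, _, j, t, Ξ, hΞ, w, h⟩ := exists_wit (S := a.range) i i' f a hf hi ha ha' hΘ hΨ hker fun _ h => h
  have hj : ∀ x y, Ξ (j (x, y)) = θ x * conj (ψ y) := fun x y => by
    have h3 := h x y 1 (one_mem _ |> fun h => by rw [map_one]; exact h)
    rw [show (⟨a 1, by rw [map_one]; exact one_mem _⟩ : a.range) = 1 from Subtype.ext (map_one _), map_one, map_one,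
      mul_one, mul_one, mul_one, h1, h2] at h3
    exact h3
  have hp : ∀ (k : ℕ) (c : C), ∃ c', φ ^ k * a c = a c' * φ ^ k := by
    intro k
    induction k with
    | zero => exact fun c => ⟨c, by simp⟩
    | succ k ih =>
      intro c
      obtain ⟨c', h3⟩ := ih c
      obtain ⟨c'', h4, -⟩ := hinv c'
      exact ⟨c'', by rw [pow_succ', mul_assoc, h3, h4]; group⟩
  let M : Submonoid (MulAut X) :=
    { carrier := {α | ∃ (c : C) (k : ℕ), α = a c * φ ^ k}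
      one_mem' := ⟨1, 0, by simp⟩
      mul_mem' := by
        rintro _ _ ⟨c, k, rfl⟩ ⟨c', k', rfl⟩
        obtain ⟨c'', h3⟩ := hp k c'
        exact ⟨c * c'', k + k', by rw [mul_assoc, ← mul_assoc (φ ^ k), h3, map_mul, pow_add]; group⟩ }
  let S' : Subgroup (MulAut X) :=
    { M with
      inv_mem' := fun {α} hα => by
        have h3 : α⁻¹ = α ^ (orderOf α - 1) := by
          rw [inv_eq_iff_mul_eq_one, ← pow_succ', Nat.sub_add_cancel (orderOf_pos α), pow_orderOf_eq_one]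
        rw [h3]
        exact M.pow_mem hα _ }
  have hS' : S' ≤ Λ := by
    rintro _ ⟨c, k, rfl⟩
    exact mul_mem (haΛ c) (pow_mem hφ k)
  refine ExtOn.mono (T := S') ?_ hS
  refine ext_meta hS' w hΞ hθ hψ hj (fun k _ => ⟨i' k, hi k⟩) (φ := φ) ⟨1, 1, by simp⟩ ?_ ?_
  · rintro _ ⟨c, k, rfl⟩
    exact ⟨a c, ⟨c, rfl⟩, k, rfl⟩
  · rintro ⟨_, c, rfl⟩ -
    obtain ⟨c', h3, h4⟩ := hinv c
    exact ⟨⟨a c', c', rfl⟩, h3, fun x y y' hy => (h _ _ c' ⟨c', rfl⟩).trans ((h4 x y y' hy).trans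
      (h _ _ c ⟨c, rfl⟩).symm)⟩

/-- **the metacyclic case**: `φ` is induced by automorphisms `σ` of `B` and `τ` of `C`, which twist the extensions
`Θ` and `Ψ` by the same function `μ` of absolute value one on `B / X` -/
theorem extOn_meta {B C : Type} [Group B] [Finite B] [Group C] [Finite C] (i : X →* B) (i' : In Λ →* C) (f : C →* B)
    (a : C →* MulAut X) (hf : ∀ y, f (i' y) = i y) (hi : ∀ y : In Λ, a (i' y) = MulAut.conj (y : X))
    (ha : ∀ c x, f c * i x = i (a c x) * f c) (ha' : ∀ c (y y' : In Λ), (y' : X) = a c y → c * i' y = i' y' * c)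
    (hinj : Function.Injective i) (haΛ : ∀ c, a c ∈ Λ) (hθ : IsIrrCharacter X θ) (hψ : IsIrrCharacter (In Λ) ψ)
    {Θ : B → ℂ} (hΘ : IsCharacter B Θ) {Ψ : C → ℂ} (hΨ : IsCharacter C Ψ) (h1 : ∀ x, Θ (i x) = θ x)
    (h2 : ∀ y, Ψ (i' y) = ψ y) (hker : ∀ c, a c = 1 → Θ (f c) * conj (Ψ c) = Θ 1 * conj (Ψ 1))
    {φ : MulAut X} (hφ : φ ∈ Λ) (σ : B →* B) (τ : C →* C) (hσ : ∀ x, σ (i x) = i (φ x))
    (hτ : ∀ y y' : In Λ, (y' : X) = φ y → τ (i' y) = i' y') (hστ : ∀ c, f (τ c) = σ (f c))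
    (μ : B →* ℂˣ) (hμ : ∀ x, μ (i x) = 1) (hΘσ : ∀ b, Θ (σ b) = μ b * Θ b) (hΨτ : ∀ c, Ψ (τ c) = μ (f c) * Ψ c)
    (hS : ∀ α ∈ S, ∃ (c : C) (k : ℕ), α = a c * φ ^ k) : ExtOn Λ S θ ψ := by
  refine extOn_meta' i i' f a hf hi ha ha' haΛ hθ hψ hΘ hΨ h1 h2 hker hφ (fun c => ⟨τ c, ?_, fun x y y' hy => ?_⟩) hS
  · ext x
    obtain ⟨x, rfl⟩ := φ.surjective x
    refine hinj (mul_right_cancel (b := f (τ c)) ?_)
    rw [← ha, hστ, ← hσ, ← map_mul, ha, map_mul, hσ]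
    simp
  · rw [← hσ, hστ, ← map_mul, hΘσ, ← hτ y y' hy, ← map_mul, hΨτ, map_mul μ, map_mul f, map_mul μ, hf, hμ, hμ, one_mul,
      map_mul]
    have h3 : (μ (f c) : ℂ) * conj (μ (f c) : ℂ) = 1 := by
      rw [Complex.mul_conj, Complex.normSq_eq_norm_sq, Characters.Linear.norm_hom_apply]
      simp
    linear_combination (Θ (i x * f c) * conj (Ψ (i' y * c))) * h3

omit [Finite X] in
/-- transport by an element of `Λ` -/
theorem _root_.Cfsg.Agent.MK.ExtOn.conj {T : Subgroup (MulAut X)} (h : ExtOn Λ T θ ψ) (δ : Λ)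
    (hS : ∀ α ∈ S, δ.1 * α * δ.1⁻¹ ∈ T) : ExtOn Λ S (fun x => θ (δ.1 x)) fun y => ψ (rs Λ δ y) := by
  obtain ⟨A, _, j, t, Ψ, hΨ, hj, rel, inn⟩ := h
  let c : S →* T := MonoidHom.mk' (fun α => ⟨_, hS α.1 α.2⟩) fun α β => Subtype.ext (by simp [mul_assoc])
  refine ⟨A, inferInstance, j.comp (δ.1.toMonoidHom.prodMap (rs Λ δ).toMonoidHom), t.comp c, Ψ, hΨ, fun x y => hj _ _,
    fun α x y y' hy => ?_, fun y hy => ?_⟩
  · have h1 := rel (c α) (δ.1 x) (rs Λ δ y) (rs Λ δ y') (by rw [rs_coe, rs_coe, hy]; simp [c])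
    have h2 : (c α).1 (δ.1 x) = δ.1 (α.1 x) := by simp [c]
    rw [h2] at h1
    exact h1
  · have h1 : MulAut.conj ((rs Λ δ y : In Λ) : X) = δ.1 * MulAut.conj (y : X) * δ.1⁻¹ := conj_map _ _
    have h2 : c ⟨_, hy⟩ = ⟨_, h1 ▸ hS _ hy⟩ := Subtype.ext h1.symm
    exact (congrArg t h2).trans (inn (rs Λ δ y) _)

end Cfsg.Agent.MK.E
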