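import Cfsg.Agent.MK.Defs
import Cfsg.Agent.Characters.Values
import Cfsg.Agent.CharactersDeep.IrrEquiv
import Cfsg.Agent.S0188
import Cfsg.Agent.S0886
import Cfsg.Agent.CharactersDeep.ExtGroup

/-!
# MK/E: the group `(X × In Λ) ⋊ S` and witnesses for `ExtOn` (helper75)

* `W Λ S j t` : the two relations of `ExtOn`;
* `exists_wit` : witnesses from extensions of `θ` and `ψ` to groups `B` and `C`;
* `ExtOn.supp`, `ExtOn.mono`, `ExtOn.sup` : changing `S` modulo the inner automorphisms;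
* `ext_meta`, `ext_syl` : the cyclic step and the Sylow-wise criterion.
-/

set_option autoImplicit false

namespace Cfsg.Agent.MK.E

open Cfsg Subgroup Cfsg.Agent.MK Cfsg.Agent.Characters.Core
open scoped ComplexConjugate

/-- a character of a finite group comes from a group in which the kernel is killed -/
theorem exists_faith {B : Type} [Group B] [Finite B] {Θ : B → ℂ} (h : IsCharacter B Θ) :
    ∃ (A : Type) (_ : Group A) (r : B →* A) (Ψ : A → ℂ), IsCharacter A Ψ ∧ (∀ b, Ψ (r b) = Θ b) ∧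
      ∀ b, Θ b = Θ 1 → r b = 1 := by
  obtain ⟨n, ρ, rfl⟩ := h
  refine ⟨(Module.End ℂ (Fin n → ℂ))ˣ, inferInstance, ρ.asGroupHom,
    Representation.character (Units.coeHom (Module.End ℂ (Fin n → ℂ))), ⟨n, _, rfl⟩, fun b => rfl, fun b hb => ?_⟩
  rw [Representation.char_one] at hb
  exact Units.ext ((Characters.Values.character_eq_finrank_iff ρ b).1 hb)

/-- a character with an irreducible restriction is irreducible -/
theorem isIrr_of_comp {G H : Type} [Group G] [Group H] [Finite H] (f : H →* G) {χ : G → ℂ} (hχ : IsCharacter G χ)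
    (h : IsIrrCharacter H fun x => χ (f x)) : IsIrrCharacter G χ := by
  obtain ⟨n, ρ, rfl⟩ := hχ
  exact ⟨n, ρ, CharactersDeep.IrrEquiv.isIrreducible_of_comp ρ f (isIrreducible_of_isIrrCharacter (ρ.comp f) h), rfl⟩

/-- the value at a central element -/
theorem mul_conj_central {G : Type} [Group G] [Finite G] {χ : G → ℂ} (hχ : IsIrrCharacter G χ) {z : G}
    (hz : z ∈ center G) {c : ℂ} (hc : χ z = c * χ 1) : c * conj c = 1 := by
  have h0 := isIrr_apply_one_ne_zero hχ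
  obtain ⟨n, ρ, hρ, rfl⟩ := hχ
  obtain ⟨w, hw⟩ := CharactersDeep.IrrEquiv.exists_commute_scalar ρ hρ (ρ z) fun g => by
    rw [← map_mul, ← map_mul, mem_center_iff.1 hz g]
  have h1 := (Characters.Values.norm_character_eq_iff ρ z).2 ⟨w, hw⟩
  rw [hc, norm_mul, Representation.char_one, Complex.norm_natCast] at h1
  rw [Representation.char_one] at h0
  have h2 : ‖c‖ = 1 := mul_right_cancel₀ (by exact_mod_cast h0) (h1.trans (one_mul _).symm)
  rw [Complex.mul_conj, Complex.normSq_eq_norm_sq, h2]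
  simp

variable {X : Type} [Group X] {Λ S : Subgroup (MulAut X)}

theorem conj_eq_one_iff {x : X} : MulAut.conj x = 1 ↔ x ∈ center X := by
  rw [mem_center_iff]
  constructor
  · intro h g
    have h1 : x * g * x⁻¹ = g := congrArg (fun a : MulAut X => a g) h
    rw [← h1, inv_mul_cancel_right, h1]
  · intro h
    ext g
    change x * g * x⁻¹ = g
    rw [← h g, mul_inv_cancel_right]

/-- `θ` and `ψ` lie over the same character of the centre -/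
def Sc (Λ : Subgroup (MulAut X)) (θ : X → ℂ) (ψ : In Λ → ℂ) : Prop :=
  ∀ z : In Λ, (z : X) ∈ center X → θ z * conj (ψ z) = θ 1 * conj (ψ 1)

theorem sc_of [Finite X] {θ : X → ℂ} {ψ : In Λ → ℂ} {l : X → ℂ} (hθ : IsIrrCharacter X θ)
    (h : ∀ z ∈ center X, θ z = l z * θ 1) (h' : Ov (In Λ) (center X) l ψ) : Sc Λ θ ψ := by
  intro z hz
  rw [h z hz, h' z hz, map_mul]
  have h1 := mul_conj_central hθ hz (h z hz)
  linear_combination (θ 1 * conj (ψ 1)) * h1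

/-- the relations of `ExtOn` -/
structure W (Λ S : Subgroup (MulAut X)) {A : Type} [Group A] (j : X × In Λ →* A) (t : S →* A) : Prop where
  rel : ∀ (α : S) (x : X) (y y' : In Λ), (y' : X) = α.1 y → t α * j (x, y) = j (α.1 x, y') * t α
  inn : ∀ (y : In Λ) (h : MulAut.conj (y : X) ∈ S), t ⟨_, h⟩ = j (y, y)

theorem extOn_mk {A : Type} [Group A] {j : X × In Λ →* A} {t : S →* A} (w : W Λ S j t) {Ψ : A → ℂ}
    (hΨ : IsCharacter A Ψ) {θ : X → ℂ} {ψ : In Λ → ℂ} (h : ∀ x y, Ψ (j (x, y)) = θ x * conj (ψ y)) : ExtOn Λ S θ ψ :=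
  ⟨A, inferInstance, j, t, Ψ, hΨ, h, w.rel, w.inn⟩

/-- **witnesses from extensions**: `θ` extends to `B`, `ψ` to `C`, and the kernel of the action acts by the same scalars -/
theorem exists_wit {B C : Type} [Group B] [Finite B] [Group C] [Finite C] (i : X →* B) (i' : In Λ →* C) (f : C →* B)
    (a : C →* MulAut X) (hf : ∀ y, f (i' y) = i y) (hi : ∀ y : In Λ, a (i' y) = MulAut.conj (y : X))
    (ha : ∀ c x, f c * i x = i (a c x) * f c) (ha' : ∀ c (y y' : In Λ), (y' : X) = a c y → c * i' y = i' y' * c)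
    {Θ : B → ℂ} (hΘ : IsCharacter B Θ) {Ψ : C → ℂ} (hΨ : IsCharacter C Ψ)
    (hker : ∀ c, a c = 1 → Θ (f c) * conj (Ψ c) = Θ 1 * conj (Ψ 1)) (hS : ∀ α ∈ S, ∃ c, a c = α) :
    ∃ (A : Type) (_ : Group A) (j : X × In Λ →* A) (t : S →* A) (Ξ : A → ℂ), IsCharacter A Ξ ∧ W Λ S j t ∧
      ∀ x y c (h : a c ∈ S), Ξ (j (x, y) * t ⟨a c, h⟩) = Θ (i x * f c) * conj (Ψ (i' y * c)) := by
  obtain ⟨A, _, r, Ξ, hΞ, hr, hk⟩ := exists_faith (S0188.isCharacter_outer hΘ (isCharacter_conj hΨ))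
  have key : ∀ c c', a c = a c' → r (f c, c) = r (f c', c') := by
    intro c c' h
    have h1 : r (f (c⁻¹ * c'), c⁻¹ * c') = 1 := hk _ (hker _ (by rw [map_mul, map_inv, h, inv_mul_cancel]))
    have h2 : ((f c', c') : B × C) = (f c, c) * (f (c⁻¹ * c'), c⁻¹ * c') := by
      ext
      · simp
      · simp
    rw [h2, map_mul, h1, mul_one]
  choose s hs using hS
  let t : S →* A := MonoidHom.mk' (fun α => r (f (s α.1 α.2), s α.1 α.2)) fun α β => by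
    rw [← map_mul, Prod.mk_mul_mk, ← map_mul]
    exact key _ _ (by rw [map_mul, hs, hs, hs]; rfl)
  have ht : ∀ c (h : a c ∈ S), t ⟨a c, h⟩ = r (f c, c) := fun c h => key _ _ (hs _ _)
  refine ⟨A, inferInstance, r.comp (i.prodMap i'), t, Ξ, hΞ, ⟨fun α x y y' h => ?_, fun y h => ?_⟩, fun x y c h => ?_⟩
  · change r (f (s α.1 α.2), s α.1 α.2) * r (i x, i' y) = r (i (α.1 x), i' y') * r (f (s α.1 α.2), s α.1 α.2)
    rw [← map_mul, ← map_mul, Prod.mk_mul_mk, Prod.mk_mul_mk, ha, ha' _ y y' (by rw [hs]; exact h), hs]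
  · change r (f (s _ h), s _ h) = r (i y, i' y)
    rw [key (s _ h) (i' y) (by rw [hs, hi]), hf]
  · rw [ht]
    change Ξ (r (i x, i' y) * r (f c, c)) = _
    rw [← map_mul, hr]
    rfl

/-- witnesses for a group of inner automorphisms -/
theorem exists_wit_inn [Finite X] {θ : X → ℂ} {ψ : In Λ → ℂ} (hθ : IsCharacter X θ) (hψ : IsCharacter (In Λ) ψ)
    (hz : Sc Λ θ ψ) (hS : S ≤ Cj (In Λ)) :
    ∃ (A : Type) (_ : Group A) (j : X × In Λ →* A) (t : S →* A) (Ξ : A → ℂ), IsCharacter A Ξ ∧ W Λ S j t ∧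
      ∀ x y, Ξ (j (x, y)) = θ x * conj (ψ y) := by
  obtain ⟨A, _, j, t, Ξ, hΞ, w, h⟩ := exists_wit (S := S) (MonoidHom.id X) (MonoidHom.id (In Λ)) (In Λ).subtype
    (MulAut.conj.comp (In Λ).subtype) (fun _ => rfl) (fun _ => rfl) (fun c x => by simp)
    (fun c y y' h => Subtype.ext (by simp [h])) hθ hψ (fun c hc => hz c (conj_eq_one_iff.1 hc))
    (fun α hα => by obtain ⟨k, hk, rfl⟩ := hS hα; exact ⟨⟨k, hk⟩, rfl⟩)
  refine ⟨A, inferInstance, j, t, Ξ, hΞ, w, fun x y => ?_⟩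
  have h1 := h x y 1 (by rw [map_one]; exact one_mem _)
  have h2 : (⟨(MulAut.conj.comp (In Λ).subtype) 1, by rw [map_one]; exact one_mem _⟩ : S) = 1 :=
    Subtype.ext (map_one _)
  rw [h2, map_one, mul_one] at h1
  simpa using h1

/-- `ExtOn` depends on `S` only modulo the inner automorphisms -/
theorem _root_.Cfsg.Agent.MK.ExtOn.supp {T : Subgroup (MulAut X)} {θ : X → ℂ} {ψ : In Λ → ℂ} (h : ExtOn Λ T θ ψ)
    (hT : T ≤ Λ) (hS : ∀ α ∈ S, ∃ (k : In Λ) (β : T), α = MulAut.conj (k : X) * β.1) : ExtOn Λ S θ ψ := by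
  obtain ⟨A, _, j, t, Ψ, hΨ, hj, rel, inn⟩ := h
  have key : ∀ (k k' : In Λ) (β β' : T), MulAut.conj (k : X) * β.1 = MulAut.conj (k' : X) * β'.1 →
      j (k, k) * t β = j (k', k') * t β' := by
    intro k k' β β' h
    have h1 : MulAut.conj ((k'⁻¹ * k : In Λ) : X) = (β' * β⁻¹ : T).1 := by
      rw [coe_mul, coe_inv, map_mul, map_inv, coe_mul, coe_inv, inv_mul_eq_iff_eq_mul, ← mul_assoc, ← h,
        mul_inv_cancel_right]
    have h2 := inn (k'⁻¹ * k) (h1 ▸ (β' * β⁻¹).2)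
    have h3 : t (β' * β⁻¹) = j ((((k' : X), k') : X × In Λ)⁻¹ * ((k : X), k)) := by
      rw [← show (⟨_, h1 ▸ (β' * β⁻¹).2⟩ : T) = β' * β⁻¹ from Subtype.ext h1, h2]
      rfl
    rw [map_mul, map_mul, map_inv, map_inv, mul_inv_eq_iff_eq_mul] at h3
    rw [h3]
    group
  choose k β hk using hS
  let t' : S →* A := MonoidHom.mk' (fun α => j (k α.1 α.2, k α.1 α.2) * t (β α.1 α.2)) fun α α' => by
    have h1 := rel (β α.1 α.2) (k α'.1 α'.2) (k α'.1 α'.2) (rs Λ ⟨_, hT (β α.1 α.2).2⟩ (k α'.1 α'.2)) rfl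
    rw [mul_assoc, ← mul_assoc (t _), h1, mul_assoc, ← map_mul, ← mul_assoc, ← map_mul]
    refine key _ (k α.1 α.2 * rs Λ ⟨_, hT (β α.1 α.2).2⟩ (k α'.1 α'.2)) _ _ ?_
    rw [← hk, coe_mul, coe_mul, coe_mul, map_mul, rs_coe, conj_map]
    conv_lhs => rw [hk α.1 α.2, hk α'.1 α'.2]
    group
  refine ⟨A, inferInstance, j, t', Ψ, hΨ, hj, fun α x y y' h => ?_, fun y h => ?_⟩
  · change j _ * t _ * _ = _ * (j _ * t _)
    have h1 := rel (β α.1 α.2) x y (rs Λ ⟨_, hT (β α.1 α.2).2⟩ y) rfl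
    rw [mul_assoc, h1, ← mul_assoc, ← mul_assoc, ← map_mul, ← map_mul]
    congr 2
    have e : ∀ u, α.1 u = (k α.1 α.2 : X) * (β α.1 α.2).1 u * (k α.1 α.2 : X)⁻¹ := fun u => by
      conv_lhs => rw [hk α.1 α.2]
      rfl
    ext
    · simp [e]
    · simp [h, e, rs_coe]
  · change j _ * t _ = _
    rw [key _ y _ 1 (by rw [← hk]; simp), map_one, mul_one]

theorem _root_.Cfsg.Agent.MK.ExtOn.mono {T : Subgroup (MulAut X)} {θ : X → ℂ} {ψ : In Λ → ℂ} (h : ExtOn Λ T θ ψ)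
    (hS : S ≤ T) : ExtOn Λ S θ ψ := by
  obtain ⟨A, _, j, t, Ψ, hΨ, hj, rel, inn⟩ := h
  exact ⟨A, inferInstance, j, t.comp (inclusion hS), Ψ, hΨ, hj, fun α x y y' h => rel (inclusion hS α) x y y' h,
    fun y h => inn y (hS h)⟩

theorem cj_le (Λ : Subgroup (MulAut X)) : Cj (In Λ) ≤ Λ := by
  rintro _ ⟨k, hk, rfl⟩
  exact hk

theorem exists_of_mem_sup {T : Subgroup (MulAut X)} (hT : T ≤ Λ) {α : MulAut X} (h : α ∈ Cj (In Λ) ⊔ T) :
    ∃ (k : In Λ) (β : T), α = MulAut.conj (k : X) * β.1 := by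
  rw [← closure_eq (Cj (In Λ)), ← closure_eq T, ← Subgroup.closure_union] at h
  induction h using closure_induction with
  | mem x hx =>
    rcases hx with ⟨k, hk, rfl⟩ | hx
    · exact ⟨⟨k, hk⟩, 1, (mul_one _).symm⟩
    · exact ⟨1, ⟨x, hx⟩, by simp⟩
  | one => exact ⟨1, 1, by simp⟩
  | mul x y _ _ hx hy =>
    obtain ⟨k, β, rfl⟩ := hx
    obtain ⟨k', β', rfl⟩ := hy
    refine ⟨k * rs Λ ⟨_, hT β.2⟩ k', β * β', ?_⟩
    rw [coe_mul, coe_mul, map_mul, rs_coe, conj_map]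
    group
  | inv x _ hx =>
    obtain ⟨k, β, rfl⟩ := hx
    refine ⟨rs Λ ⟨_, hT β⁻¹.2⟩ k⁻¹, β⁻¹, ?_⟩
    rw [rs_coe, conj_map, coe_inv, coe_inv, map_inv]
    group

theorem _root_.Cfsg.Agent.MK.ExtOn.sup {T : Subgroup (MulAut X)} {θ : X → ℂ} {ψ : In Λ → ℂ} (h : ExtOn Λ T θ ψ)
    (hT : T ≤ Λ) : ExtOn Λ (Cj (In Λ) ⊔ T) θ ψ :=
  h.supp hT fun _ hα => exists_of_mem_sup hT hα

/-! ### the semidirect product -/

/-- the action of `S` on `X × In Λ` -/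
def ph (hS : S ≤ Λ) : S →* MulAut (X × In Λ) where
  toFun α := MulEquiv.prodCongr α.1 (rs Λ ⟨α.1, hS α.2⟩)
  map_one' := rfl
  map_mul' _ _ := rfl

theorem ph_apply (hS : S ≤ Λ) (α : S) (u : X × In Λ) : ph hS α u = (α.1 u.1, rs Λ ⟨α.1, hS α.2⟩ u.2) := rfl

/-- the semidirect product -/
abbrev F (hS : S ≤ Λ) : Type := (X × In Λ) ⋊[ph hS] S

theorem finite_F [Finite X] (hS : S ≤ Λ) : Finite (F hS) :=
  Finite.of_equiv _ (SemidirectProduct.equivProd (φ := ph hS)).symm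

/-- the preimage of `T` -/
def Pre (hS : S ≤ Λ) (T : Subgroup (MulAut X)) : Subgroup (F hS) :=
  T.comap (S.subtype.comp SemidirectProduct.rightHom)

theorem mem_Pre (hS : S ≤ Λ) {T : Subgroup (MulAut X)} {g : F hS} : g ∈ Pre hS T ↔ g.right.1 ∈ T := Iff.rfl

theorem index_Pre (hS : S ≤ Λ) (T : Subgroup (MulAut X)) : (Pre hS T).index = T.relIndex S := by
  rw [Pre, ← comap_comap, index_comap_of_surjective _ SemidirectProduct.rightHom_surjective]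
  rfl

section wit

variable (hS : S ≤ Λ) {T : Subgroup (MulAut X)} {A : Type} [Group A] {j : X × In Λ →* A} {t : T →* A}

/-- the homomorphism defined by witnesses -/
def hm (w : W Λ T j t) : Pre hS T →* A :=
  MonoidHom.mk' (fun g => j g.1.left * t ⟨g.1.right.1, g.2⟩) fun g h => by
    have h1 := w.rel ⟨g.1.right.1, g.2⟩ h.1.left.1 h.1.left.2 (rs Λ ⟨_, hS g.1.right.2⟩ h.1.left.2) rfl
    have h2 : (⟨(g * h).1.right.1, (g * h).2⟩ : T) = ⟨g.1.right.1, g.2⟩ * ⟨h.1.right.1, h.2⟩ := rfl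
    have h3 : (g * h).1.left = g.1.left * ph hS g.1.right h.1.left := rfl
    rw [h2, h3, map_mul, map_mul, mul_assoc, mul_assoc, ← mul_assoc (t _), h1, mul_assoc]
    rfl

theorem hm_apply (w : W Λ T j t) (g : Pre hS T) : hm hS w g = j g.1.left * t ⟨g.1.right.1, g.2⟩ := rfl

theorem hm_inn (w : W Λ T j t) {Ψ : A → ℂ} {θ : X → ℂ} {ψ : In Λ → ℂ} (h : ∀ x y, Ψ (j (x, y)) = θ x * conj (ψ y))
    (g : Pre hS T) (k : In Λ) (hk : g.1.right.1 = MulAut.conj (k : X)) :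
    Ψ (hm hS w g) = θ (g.1.left.1 * k) * conj (ψ (g.1.left.2 * k)) := by
  rw [hm_apply, show (⟨g.1.right.1, g.2⟩ : T) = ⟨_, hk ▸ g.2⟩ from Subtype.ext hk, w.inn, ← map_mul, ← h]
  rfl

theorem hm_irr [Finite X] (w : W Λ T j t) {Ψ : A → ℂ} (hΨ : IsCharacter A Ψ) {θ : X → ℂ} {ψ : In Λ → ℂ}
    (hθ : IsIrrCharacter X θ) (hψ : IsIrrCharacter (In Λ) ψ) (h : ∀ x y, Ψ (j (x, y)) = θ x * conj (ψ y)) :
    IsIrrCharacter (Pre hS T) fun g => Ψ (hm hS w g) := by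
  refine isIrr_of_comp (SemidirectProduct.inl.codRestrict (Pre hS T) fun u => T.one_mem)
    (isCharacter_comp (hm hS w) hΨ) ?_
  have h1 := S0188.isIrr_outer hθ (isIrr_conj hψ)
  convert h1 using 2 with u
  have h2 := hm_inn hS w h (SemidirectProduct.inl.codRestrict (Pre hS T) (fun u => T.one_mem) u) 1
    (map_one MulAut.conj).symm
  rw [h2]
  change θ (u.1 * 1) * conj (ψ (u.2 * 1)) = _
  rw [mul_one, mul_one]

end wit

/-- from a character of the semidirect product -/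
theorem extOn_of_char [Finite X] (hS : S ≤ Λ) {θ : X → ℂ} {ψ : In Λ → ℂ} {χ : F hS → ℂ} (hχ : IsCharacter (F hS) χ)
    (h : ∀ (g : F hS) (k : In Λ), g.right.1 = MulAut.conj (k : X) →
      χ g = θ (g.left.1 * k) * conj (ψ (g.left.2 * k))) : ExtOn Λ S θ ψ := by
  have := finite_F hS
  obtain ⟨A, _, r, Ψ, hΨ, hr, hk⟩ := exists_faith hχ
  refine ⟨A, inferInstance, r.comp SemidirectProduct.inl, r.comp SemidirectProduct.inr, Ψ, hΨ, fun x y => ?_,
    fun α x y y' hy => ?_, fun y hy => ?_⟩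
  · rw [MonoidHom.comp_apply, hr, h _ 1 (by simp)]
    simp
  · simp only [MonoidHom.comp_apply]
    rw [← map_mul, ← map_mul]
    congr 1
    have h1 : ((α.1 x, y') : X × In Λ) = ph hS α (x, y) := Prod.ext rfl (Subtype.ext hy)
    rw [h1, SemidirectProduct.inl_aut, map_inv, inv_mul_cancel_right]
  · simp only [MonoidHom.comp_apply]
    have h1 := hk ((SemidirectProduct.inl ((y : X), y))⁻¹ * SemidirectProduct.inr ⟨_, hy⟩) (by
      rw [h _ y (by simp), h 1 1 (by simp), ← map_inv]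
      simp)
    rw [map_mul, map_inv, inv_mul_eq_one] at h1
    exact h1.symm

/-- **the cyclic step** -/
theorem ext_meta [Finite X] (hS : S ≤ Λ) {T : Subgroup (MulAut X)} {A : Type} [Group A] {j : X × In Λ →* A}
    {t : T →* A} (w : W Λ T j t) {Ψ : A → ℂ} (hΨ : IsCharacter A Ψ) {θ : X → ℂ} {ψ : In Λ → ℂ}
    (hθ : IsIrrCharacter X θ) (hψ : IsIrrCharacter (In Λ) ψ) (h : ∀ x y, Ψ (j (x, y)) = θ x * conj (ψ y))
    (hin : ∀ k : In Λ, MulAut.conj (k : X) ∈ S → MulAut.conj (k : X) ∈ T) {φ : MulAut X} (hφ : φ ∈ S)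
    (hgen : ∀ α ∈ S, ∃ β ∈ T, ∃ k : ℕ, α = β * φ ^ k)
    (hinv : ∀ β : T, β.1 ∈ S → ∃ β' : T, β'.1 = φ * β.1 * φ⁻¹ ∧
      ∀ (x : X) (y y' : In Λ), (y' : X) = φ y → Ψ (j (φ x, y') * t β') = Ψ (j (x, y) * t β)) :
    ExtOn Λ S θ ψ := by
  have := finite_F hS
  have hϑ := hm_irr hS w hΨ hθ hψ h
  let Q : F hS → Prop := fun g => ∀ n : Pre hS T, ∃ h : g * n * g⁻¹ ∈ Pre hS T, Ψ (hm hS w ⟨_, h⟩) = Ψ (hm hS w n)
  have qm : ∀ g g', Q g → Q g' → Q (g * g') := by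
    intro g g' hg hg' n
    obtain ⟨h1, h2⟩ := hg' n
    obtain ⟨h3, h4⟩ := hg ⟨_, h1⟩
    have e : g * g' * n * (g * g')⁻¹ = g * (g' * n * g'⁻¹) * g⁻¹ := by group
    refine ⟨e ▸ h3, ?_⟩
    rw [← h2, ← h4]
    congr 2
    exact Subtype.ext e
  have qn : ∀ g ∈ Pre hS T, Q g := fun g hg n =>
    ⟨mul_mem (mul_mem hg n.2) (inv_mem hg), isIrr_isClassFunction hϑ n ⟨g, hg⟩⟩
  have qf : Q (SemidirectProduct.inr ⟨φ, hφ⟩) := by
    intro n
    obtain ⟨β', h1, h2⟩ := hinv ⟨n.1.right.1, n.2⟩ n.1.right.2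
    have e1 : (SemidirectProduct.inr ⟨φ, hφ⟩ * n.1 * (SemidirectProduct.inr ⟨φ, hφ⟩)⁻¹ : F hS).right.1 = β'.1 := by
      rw [h1]
      simp
    have e2 : (SemidirectProduct.inr ⟨φ, hφ⟩ * n.1 * (SemidirectProduct.inr ⟨φ, hφ⟩)⁻¹ : F hS).left =
        ph hS ⟨φ, hφ⟩ n.1.left := by
      rw [← map_inv]
      simp
    refine ⟨(mem_Pre hS).2 (e1 ▸ β'.2), ?_⟩
    rw [hm_apply, hm_apply]
    refine Eq.trans ?_ (h2 n.1.left.1 n.1.left.2 (rs Λ ⟨φ, hS hφ⟩ n.1.left.2) rfl)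
    congr 2
    · exact congrArg j e2
    · exact congrArg t (Subtype.ext e1)
  have dec : ∀ g : F hS, ∃ n ∈ Pre hS T, ∃ k : ℕ, g = n * SemidirectProduct.inr ⟨φ, hφ⟩ ^ k := by
    intro g
    obtain ⟨β, hβ, k, hk⟩ := hgen _ g.right.2
    refine ⟨g * (SemidirectProduct.inr ⟨φ, hφ⟩ ^ k)⁻¹, (mem_Pre hS).2 ?_, k, by group⟩
    rw [← map_pow, ← map_inv]
    simpa [hk] using hβ
  have qa : ∀ g, Q g := by
    intro g
    obtain ⟨n, hn, k, rfl⟩ := dec g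
    refine qm _ _ (qn n hn) ?_
    induction k with
    | zero => exact qn _ (by rw [pow_zero]; exact one_mem _)
    | succ k ih => rw [pow_succ]; exact qm _ _ ih qf
  have hN : (Pre hS T).Normal := ⟨fun n hn g => (qa g ⟨n, hn⟩).1⟩
  have hc : IsCyclic (F hS ⧸ Pre hS T) := by
    refine ⟨⟨((SemidirectProduct.inr ⟨φ, hφ⟩ : F hS) : F hS ⧸ Pre hS T), fun q => ?_⟩⟩
    obtain ⟨g, rfl⟩ := QuotientGroup.mk_surjective q
    obtain ⟨n, hn, k, rfl⟩ := dec g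
    refine ⟨(k : ℤ), ?_⟩
    rw [QuotientGroup.mk_mul, (QuotientGroup.eq_one_iff n).2 hn, one_mul, QuotientGroup.mk_pow]
    exact zpow_natCast _ _
  obtain ⟨χ, hχ, hr⟩ := S0886.result (Pre hS T) hc _ hϑ fun g n => (qa g n).2
  refine extOn_of_char hS (isIrr_isCharacter hχ) fun g k hk => ?_
  have hg : g ∈ Pre hS T := (mem_Pre hS).2 (hk ▸ hin k (hk ▸ g.right.2))
  exact (hr ⟨g, hg⟩).trans (hm_inn hS w h ⟨g, hg⟩ k hk)

/-- **the Sylow-wise criterion** -/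
theorem ext_syl [Finite X] (hS : S ≤ Λ) {θ : X → ℂ} {ψ : In Λ → ℂ} (hθ : IsIrrCharacter X θ)
    (hψ : IsIrrCharacter (In Λ) ψ) (hz : Sc Λ θ ψ) (hθS : ∀ α ∈ S, ∀ x, θ (α x) = θ x)
    (hψS : ∀ α ∈ S, ∀ y y' : In Λ, (y' : X) = α y → ψ y' = ψ y)
    (h : ∀ r : ℕ, r.Prime → ∃ T, Cj (In Λ) ≤ T ∧ (T.relIndex S).Coprime r ∧ ExtOn Λ T θ ψ) : ExtOn Λ S θ ψ := by
  have := finite_F hS
  obtain ⟨A, _, j, t, Ψ, hΨ, w, hj⟩ := exists_wit_inn (S := Cj (In Λ)) (isIrr_isCharacter hθ) (isIrr_isCharacter hψ)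
    hz le_rfl
  have hϑ := hm_irr hS w hΨ hθ hψ hj
  have hN : (Pre hS (Cj (In Λ))).Normal := by
    refine ⟨fun n hn g => ?_⟩
    obtain ⟨k, hk, e⟩ := hn
    refine ⟨g.right.1 k, map_mem_In (hS g.right.2) hk, ?_⟩
    rw [conj_map, e]
    simp
  obtain ⟨d, -, hd⟩ := isIrr_apply_one hϑ
  suffices H : ∃ χ : F hS → ℂ, IsIrrCharacter (F hS) χ ∧ ∀ n : Pre hS (Cj (In Λ)), χ n = Ψ (hm hS w n) by
    obtain ⟨χ, hχ, hr⟩ := H
    refine extOn_of_char hS (isIrr_isCharacter hχ) fun g k hk => ?_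
    have hg : g ∈ Pre hS (Cj (In Λ)) := ⟨k, k.2, hk.symm⟩
    exact (hr ⟨g, hg⟩).trans (hm_inn hS w hj ⟨g, hg⟩ k hk)
  refine CharactersDeep.ExtGroup.extends_of_local (Pre hS (Cj (In Λ))) _ hϑ (fun g n => ?_) d hd
    (fun r hr => Or.inl ?_)
  · obtain ⟨k, hk, e'⟩ : ∃ k ∈ In Λ, n.1.right.1 = MulAut.conj k := by
      obtain ⟨k, hk, e⟩ := n.2
      exact ⟨k, hk, e.symm⟩
    have e0 : (g * n.1 * g⁻¹).right.1 = MulAut.conj (g.right.1 k) := by
      rw [conj_map, ← e']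
      simp
    rw [hm_inn hS w hj n ⟨k, hk⟩ e', hm_inn hS w hj _ (rs Λ ⟨_, hS g.right.2⟩ ⟨k, hk⟩) e0]
    have e1 : (g * n.1 * g⁻¹).left = g.left * ph hS g.right n.1.left * ph hS (g.right * n.1.right * g.right⁻¹) g.left⁻¹ := by
      simp
    have e2 : ∀ u, (g.right * n.1.right * g.right⁻¹).1 u = g.right.1 k * u * (g.right.1 k)⁻¹ := fun u => by
      rw [coe_mul, coe_mul, coe_inv, e', ← conj_map]
      rfl
    congr 1
    · rw [← hθS _ g.right.2 (n.1.left.1 * k), ← isIrr_isClassFunction hθ (g.right.1 _) g.left.1]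
      congr 1
      change (g * n.1 * g⁻¹).left.1 * g.right.1 k = _
      rw [e1, Prod.fst_mul, Prod.fst_mul, ph_apply, ph_apply, e2]
      simp [mul_assoc]
    · rw [← hψS _ g.right.2 (n.1.left.2 * ⟨k, hk⟩) (rs Λ ⟨_, hS g.right.2⟩ (n.1.left.2 * ⟨k, hk⟩)) rfl,
        ← isIrr_isClassFunction hψ (rs Λ ⟨_, hS g.right.2⟩ _) g.left.2]
      congr 2
      apply Subtype.ext
      change ((g * n.1 * g⁻¹).left.2 : X) * g.right.1 k = _
      rw [e1, Prod.snd_mul, Prod.snd_mul, ph_apply, ph_apply, coe_mul, coe_mul, rs_coe, rs_coe, e2]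
      simp [rs_coe, mul_assoc]
  · obtain ⟨T, hT, hc, A', _, j', t', Ψ', hΨ', hj', rel, inn⟩ := h r hr
    have w' : W Λ T j' t' := ⟨rel, inn⟩
    refine ⟨Pre hS T, comap_mono hT, _, by rw [index_Pre]; exact hc, hm_irr hS w' hΨ' hθ hψ hj', fun n => ?_⟩
    obtain ⟨k, hk, e⟩ := n.2
    rw [hm_inn hS w hj n ⟨k, hk⟩ e.symm, hm_inn hS w' hj' _ ⟨k, hk⟩ e.symm]

end Cfsg.Agent.MK.E
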