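import Cfsg.Agent.MK.E.Ext
import Cfsg.Agent.S0887
import Cfsg.Agent.S0900
import Cfsg.Agent.CharactersDeep.IndFun

/-!
# MK/E: extension from a multiplicity prime to `r` (helper75)

* `ext_of_mult` : `G / N` an `r`-group, `θ` invariant, a character of `G` contains `θ` with a multiplicity prime to `r`;
* `exS_mult`, `exS_lin` : semidirect products; an invariant linear character of an invariant subgroup.
-/

set_option autoImplicit false

namespace Cfsg.Agent.MK.E

open Cfsg Subgroup Cfsg.Agent.MK Cfsg.Agent.Characters.Core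
open scoped ComplexConjugate

theorem ext_of_mult {G : Type} [Group G] [Fintype G] (N : Subgroup G) [hN : N.Normal] [Fintype N] {r k : ℕ}
    (hr : r.Prime) (hk : N.index = r ^ k) {θ : N → ℂ} (hθ : IsIrrCharacter N θ)
    (hinv : ∀ (g : G) (n : N), θ ⟨g * n * g⁻¹, hN.conj_mem (n : G) n.2 g⟩ = θ n) {Ξ : G → ℂ} (hΞ : IsCharacter G Ξ)
    {m : ℕ} (hm : classInner (fun n : N => Ξ n) θ = m) (hrm : ¬ r ∣ m) :
    ∃ χ : G → ℂ, IsIrrCharacter G χ ∧ ∀ n : N, χ n = θ n := by
  have := finite_irr (G := G)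
  have := Fintype.ofFinite (IrrCharacter G)
  obtain ⟨a, ha⟩ := exists_nat_comb hΞ
  have h1 : ∀ χ : IrrCharacter G, ∃ e : ℕ, classInner (fun n : N => χ.1 n) θ = e := fun χ =>
    classInner_isNat (Characters.Clifford.isCharacter_restrict N (isIrr_isCharacter χ.2)) (isIrr_isCharacter hθ)
  choose e he using h1
  have h2 : m = ∑ χ, a χ * e χ := by
    have h3 : (fun n : N => Ξ n) = ∑ χ : IrrCharacter G, (a χ : ℂ) • fun n : N => χ.1 n := by
      funext n
      rw [ha]
      simp
    rw [h3, classInner_sum_left] at hm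
    simp only [classInner_smul_left, he] at hm
    exact_mod_cast hm.symm
  obtain ⟨χ, hχ⟩ : ∃ χ, ¬ r ∣ e χ := by
    by_contra h
    push Not at h
    exact hrm (h2 ▸ Finset.dvd_sum fun χ _ => (h χ).mul_left _)
  have h0 : classInner (fun n : N => χ.1 n) θ ≠ 0 := by
    rw [he]
    exact Nat.cast_ne_zero.2 fun h => hχ (h ▸ dvd_zero r)
  obtain ⟨e', he'⟩ := S0900.restrict_eq_smul N χ.1 χ.2 θ hθ h0 hinv
  have h4 : e' = e χ := by
    have h5 := he χ
    rw [he', classInner_smul_left, classInner_irr_self hθ, mul_one] at h5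
    exact_mod_cast h5
  obtain ⟨d, hd0, hd⟩ := isIrr_apply_one hθ
  have h5 : χ.1 1 = (e' * d : ℕ) := by
    have h6 := congrFun he' 1
    rw [Pi.smul_apply, hd, smul_eq_mul] at h6
    rw [Nat.cast_mul]
    exact h6
  have h6 := (S0887.result N χ.1 χ.2 θ hθ h0 _ _ h5 hd).2
  rw [Nat.mul_div_cancel _ hd0, hk, h4] at h6
  have h7 : e χ = 1 := Nat.Coprime.eq_one_of_dvd (((Nat.Prime.coprime_iff_not_dvd hr).2 hχ).symm.pow_right k) h6
  refine ⟨χ.1, χ.2, fun n => ?_⟩
  have h8 := congrFun he' n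
  rwa [h4, h7, Nat.cast_one, one_smul] at h8

variable {H P : Type} [Group H] [Group P] {φ : P →* MulAut H} {θ : H → ℂ}

/-- the normal factor is isomorphic to `H` -/
def lfE : NS φ ≃* H :=
  { lf (φ := φ) with
    invFun := fun x => ⟨SemidirectProduct.inl x, rfl⟩
    left_inv := fun g => Subtype.ext (SemidirectProduct.ext rfl (Eq.symm g.2))
    right_inv := fun _ => rfl }

theorem exS_mult [Fintype H] [Finite P] {r : ℕ} (hr : r.Prime) (hP : IsPGroup r P) (hθ : IsIrrCharacter H θ)
    (hinv : ∀ p x, θ (φ p x) = θ x) {Ξ : H ⋊[φ] P → ℂ} (hΞ : IsCharacter _ Ξ) {m : ℕ}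
    (hm : classInner (fun x => Ξ (SemidirectProduct.inl x)) θ = m) (hrm : ¬ r ∣ m) : ExS φ θ := by
  have := finite_sd (φ := φ)
  have := Fintype.ofFinite (H ⋊[φ] P)
  have := Fintype.ofFinite (NS φ)
  have := normal_NS (φ := φ)
  have := Fact.mk hr
  obtain ⟨k, hk⟩ := IsPGroup.iff_card.1 hP
  obtain ⟨χ, hχ, h⟩ := ext_of_mult (NS φ) hr (index_NS.trans hk) (isIrr_comp lf lf_surj hθ)
    (inv_NS (isIrr_isClassFunction hθ) hinv) hΞ (m := m) (by
      rw [← hm, ← Characters.Clifford.classInner_comp_mulEquiv (lfE (φ := φ))]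
      congr 1
      funext n
      exact congrArg Ξ (congrArg Subtype.val ((lfE (φ := φ)).symm_apply_apply n)).symm) hrm
  exact exS_of_NS (isIrr_isCharacter hχ) h

/-- **an invariant linear character of an invariant subgroup with a multiplicity prime to `r`** -/
theorem exS_lin [Finite H] [Finite P] {r : ℕ} (hr : r.Prime) (hP : IsPGroup r P) (hθ : IsIrrCharacter H θ)
    (hinv : ∀ p x, θ (φ p x) = θ x) (U : Subgroup H) [Fintype U] (hU : ∀ p, ∀ u ∈ U, φ p u ∈ U) (lam : U →* ℂˣ)
    (hl : ∀ p (u : U), lam ⟨φ p u, hU p u u.2⟩ = lam u) {m : ℕ}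
    (hm : classInner (fun u : U => θ u) (fun u => lam u) = m) (hrm : ¬ r ∣ m) : ExS φ θ := by
  classical
  have := finite_sd (φ := φ)
  have := Fintype.ofFinite (H ⋊[φ] P)
  have := Fintype.ofFinite H
  have := Fintype.ofFinite P
  let V : Subgroup (H ⋊[φ] P) :=
    { carrier := {g | g.left ∈ U}
      one_mem' := U.one_mem
      mul_mem' := fun ha hb => mul_mem ha (hU _ _ hb)
      inv_mem' := fun ha => hU _ _ (inv_mem ha) }
  have := Fintype.ofFinite V
  let L : V →* ℂˣ := MonoidHom.mk' (fun g => lam ⟨g.1.left, g.2⟩) fun g h => by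
    rw [← hl g.1.right ⟨h.1.left, h.2⟩, ← map_mul]
    rfl
  let f : H ⋊[φ] P → ℂ := fun g => if g.right = 1 then θ g.left else 0
  have hf : IsClassFunction _ f := by
    intro g h
    by_cases h1 : g.right = 1
    · have h2 : (h * g * h⁻¹).right = 1 := by simp [h1]
      simp only [f, if_pos h1, if_pos h2]
      exact inv_NS (isIrr_isClassFunction hθ) hinv h ⟨g, h1⟩
    · have h2 : ¬ (h * g * h⁻¹).right = 1 := by simpa using h1
      simp only [f, if_neg h1, if_neg h2]
  have h1 := CharactersDeep.IndFun.classInner_indFun V (fun g => (L g : ℂ)) f hf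
  let e : V ≃ U × P :=
    { toFun := fun g => (⟨g.1.left, g.2⟩, g.1.right)
      invFun := fun u => ⟨⟨u.1, u.2⟩, u.1.2⟩
      left_inv := fun _ => rfl
      right_inv := fun _ => rfl }
  have hp : (Nat.card P : ℂ) ≠ 0 := card_ne_zero_complex
  refine exS_mult hr hP hθ hinv (CharactersDeep.IndFun.isCharacter_indFun V (Characters.Linear.isCharacter_hom L))
    (m := m) ?_ hrm
  have h2 : classInner (fun g : V => (L g : ℂ)) (fun g : V => f g) = (Nat.card P : ℂ)⁻¹ * m := by
    have h3 : (m : ℂ) = classInner (fun u : U => (lam u : ℂ)) fun u : U => θ u := by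
      rw [← classInner_conj_symm, hm, Complex.conj_natCast]
    rw [h3, classInner_def, classInner_def, Nat.card_congr e, Nat.card_prod, ← e.symm.sum_comp, Fintype.sum_prod_type,
      Nat.cast_mul, mul_inv, ← mul_assoc, mul_comm (Nat.card P : ℂ)⁻¹]
    congr 1
    refine Finset.sum_congr rfl fun u _ => ?_
    rw [Finset.sum_eq_single 1 (fun p _ hp => by simp [f, e, hp]) (by simp)]
    simp [f, e, L]
  have h3 : ∀ Ξ : H ⋊[φ] P → ℂ, classInner Ξ f =
      (Nat.card P : ℂ)⁻¹ * classInner (fun x => Ξ (SemidirectProduct.inl x)) θ := by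
    intro Ξ
    rw [classInner_def, classInner_def, Nat.card_congr (SemidirectProduct.equivProd (φ := φ)), Nat.card_prod,
      ← (SemidirectProduct.equivProd (φ := φ)).symm.sum_comp, Fintype.sum_prod_type,
      Nat.cast_mul, mul_inv, ← mul_assoc, mul_comm (Nat.card P : ℂ)⁻¹]
    congr 1
    refine Finset.sum_congr rfl fun u _ => ?_
    rw [Finset.sum_eq_single 1 (fun p _ hp => by simp [f, hp]) (by simp)]
    simp only [f, SemidirectProduct.equivProd_symm_apply_right, if_pos, SemidirectProduct.equivProd_symm_apply_left]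
    rfl
  rw [h2, h3] at h1
  exact mul_left_cancel₀ (inv_ne_zero hp) h1

end Cfsg.Agent.MK.E
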